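import Cfsg.Agent.H930.IP.Kd
import Cfsg.Agent.H662.RIM.AbelA

/-!
# S4816, layer (I): `AbelStmt` from Hering's theorem for `p'`-groups (helper930, on helper662's `abel_of`)
-/

set_option autoImplicit false
set_option linter.unusedSectionVars false
set_option linter.style.haveILetI false

namespace Cfsg.Agent.H930.IP

universe v

theorem abelStmt_of {p : ℕ} [hp : Fact p.Prime] (her : Cfsg.Agent.H662.RIM.HerP.{v} p) : AbelStmt.{v} p := by
  intro W _ _ L hexp hL htr e he a ha b hb hae hbe v
  haveI : Finite (W ≃ₗ[ℤ] W) := Finite.of_injective (fun f : W ≃ₗ[ℤ] W => (f : W → W)) DFunLike.coe_injective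
  haveI : Finite L := inferInstance
  exact Cfsg.Agent.H662.RIM.abel_of (G := W ≃ₗ[ℤ] W) (V := W) her hexp L hL ⊤ (fun _ _ _ _ => AddSubgroup.mem_top _)
    (fun x _ y _ hx hy => htr x y hx hy) (AddSubgroup.mem_top e) he ha hb hae hbe v (AddSubgroup.mem_top v)

end Cfsg.Agent.H930.IP
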