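import Cfsg.Agent.H930.IP.Layer
import Cfsg.Agent.H930.IP.AbelOf
import Cfsg.Agent.H37.RIM.Pure

/-!
# S4816, layer (I): assembly from Hering's theorem (helper930)
-/

set_option autoImplicit false
set_option linter.unusedSectionVars false
set_option linter.style.haveILetI false

open Cfsg

namespace Cfsg.Agent.H930.IP

open Cfsg.Agent.H229.RIM (CoreP LayerIP)

universe u

/-- **Layer (I)** from Hering's theorem in the forms of helper37 and helper662, and the case of `AGL_3(2)`. -/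
theorem layerIP_of_her {p : ℕ} [hp : Fact p.Prime] (him : Cfsg.Agent.H37.NX.IM.{u} p)
    (h3513 : Cfsg.Agent.H586.GW.S3513Stmt) (her : Cfsg.Agent.H37.RIM.HerP.{u})
    (her' : p ≠ 2 → Cfsg.Agent.H662.RIM.HerP.{u} p) (hagl : AglStmt.{u}) :
    LayerIP.{u} p := by
  intro H V _ _ _ _ _ K N φ C hI
  have hab : AbelStmt.{u} p := abelStmt_of (her' C.odd)
  obtain ⟨M, W, Q, I, h2p⟩ := Cfsg.Agent.H32.NY.A37.impW_of_coreP h3513 hp.out C hI
  rcases I.type with ⟨hQK, hA, h58⟩ | ⟨hp3, h8, hQ⟩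
  · rcases Cfsg.Agent.H37.RIM.pure_or_good her I hQK hA h58 h2p with ⟨⟨r, hr⟩, trQ⟩ | ⟨pure, trQ⟩ | ⟨rfl, h5, h5K⟩
    · exact Cfsg.Agent.H32.NY.A239.good_false_alt I hr trQ hA h58
    · exact pure_false him hab I hQK hA h58 h2p pure trQ
    · refine coreP_five_false C ?_ h5K
      rw [← hQK]
      exact index_five I.memQ hA h5
  · subst hp3
    exact hagl I h8 hQ

end Cfsg.Agent.H930.IP
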