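import Cfsg.Agent.H930.IP.EndIP
import Cfsg.Agent.H32.NY.Good
import Cfsg.Agent.H32.NY.ImpOf

/-!
# S4816, layer (I): assembly (helper930)
-/

set_option autoImplicit false
set_option linter.unusedSectionVars false
set_option linter.style.haveILetI false

open Cfsg
open scoped Pointwise

namespace Cfsg.Agent.H930.IP

open MulAction
open Cfsg.Agent.H32.NY.A32 Cfsg.Agent.H32.NX9
open Cfsg.Agent.H229.RIM (CoreP LayerIP)

universe u

/-- The alternating case is pure, or has a good prime, or has degree `5`. -/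
def PureStmt (p : ℕ) : Prop :=
  ∀ {H V B : Type u} [Group H] [Finite H] [AddCommGroup V] [Finite V] [DistribMulAction H V] [Finite B]
    [MulAction H B] {W : B → AddSubgroup V} {K N Q : Subgroup H} {φ : N →* ℂˣ},
    CoreP (V := V) p K N φ → ImpW (V := V) p p W K N Q φ → Q = K → IsAlt H B →
      ((p = 3 ∧ Nat.card B = 5) ∨ 8 ≤ Nat.card B) →
    (∃ r, GoodPr p r W Q ∧ ∀ i, ∀ a ∈ W i, ∀ b ∈ W i, a ≠ 0 → b ≠ 0 → ∃ k ∈ Q, k • a = b) ∨
    ((∀ x : H, (∃ k, x ^ p ^ k = 1) → ∀ i : B, x • i = i → ∀ w ∈ W i, x • w = w) ∧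
      ∀ i, ∀ a ∈ W i, ∀ b ∈ W i, a ≠ 0 → b ≠ 0 → ∃ k ∈ Q, k • a = b) ∨
    (p = 3 ∧ Nat.card B = 5 ∧ ¬ 5 ∣ N.relIndex K)

/-- The case of `AGL_3(2)` is impossible. -/
def AglStmt : Prop :=
  ∀ {H V B : Type u} [Group H] [Finite H] [AddCommGroup V] [Finite V] [DistribMulAction H V] [Finite B]
    [MulAction H B] {W : B → AddSubgroup V} {K N Q : Subgroup H} {φ : N →* ℂˣ},
    ImpW (V := V) 3 3 W K N Q φ → Nat.card B = 8 → Q.index = 1344 → False

theorem index_five {H B : Type u} [Group H] [Finite H] [Finite B] [MulAction H B] {Q : Subgroup H}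
    (hQ : ∀ h : H, h ∈ Q ↔ ∀ i : B, h • i = i) (hA : IsAlt H B) (h5 : Nat.card B = 5) : Q.index = 60 := by
  classical
  letI : Fintype B := Fintype.ofFinite B
  have hA' : ∀ σ : Equiv.Perm B, Equiv.Perm.sign σ = 1 ↔ ∃ h : H, ∀ b, h • b = σ b := by
    obtain ⟨i1, i2, h⟩ := hA
    intro σ
    convert h σ
  have hker : (toPermHom H B).ker = Q := by
    ext h
    rw [MonoidHom.mem_ker, hQ]
    constructor
    · intro h1 i
      exact congrArg (fun s : Equiv.Perm B => s i) h1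
    · intro h1
      exact Equiv.Perm.ext h1
  have hρ : (toPermHom H B).range = alternatingGroup B := by
    ext σ
    rw [Equiv.Perm.mem_alternatingGroup, hA' σ]
    constructor
    · rintro ⟨h, rfl⟩
      exact ⟨h, fun b => rfl⟩
    · rintro ⟨h, hh⟩
      exact ⟨h, Equiv.Perm.ext hh⟩
  rw [← hker, Subgroup.index_ker, hρ]
  have e : alternatingGroup B ≃* alternatingGroup (Fin (Fintype.card B)) := (Fintype.equivFin B).altCongrHom
  rw [← Nat.card_eq_fintype_card, h5] at e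
  rw [Nat.card_congr e.toEquiv, card_a5]

theorem layerIP_of {p : ℕ} [hp : Fact p.Prime] (him : Cfsg.Agent.H37.NX.IM.{u} p)
    (h3513 : Cfsg.Agent.H586.GW.S3513Stmt) (hab : AbelStmt.{u} p) (hpure : PureStmt.{u} p) (hagl : AglStmt.{u}) :
    LayerIP.{u} p := by
  intro H V _ _ _ _ _ K N φ C hI
  obtain ⟨M, W, Q, I, h2p⟩ := Cfsg.Agent.H32.NY.A37.impW_of_coreP h3513 hp.out C hI
  rcases I.type with ⟨hQK, hA, h58⟩ | ⟨hp3, h8, hQ⟩
  · rcases hpure C I hQK hA h58 with ⟨r, hr, trQ⟩ | ⟨pure, trQ⟩ | ⟨rfl, h5, h5K⟩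
    · exact Cfsg.Agent.H32.NY.A239.good_false_alt I hr trQ hA h58
    · exact pure_false him hab I hQK hA h58 h2p pure trQ
    · refine coreP_five_false C ?_ h5K
      rw [← hQK]
      exact index_five I.memQ hA h5
  · subst hp3
    exact hagl I h8 hQ

end Cfsg.Agent.H930.IP
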