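import Cfsg.Agent.H37.NX.TripNum
import Cfsg.Agent.H37.NW.Cov
import Cfsg.Agent.H37.NW.TThree
import Cfsg.Agent.H37.NW.Ctx
import Cfsg.Agent.H692.Rel.Red
import Cfsg.Agent.H676.DL.Prep
import Cfsg.Agent.S0494
import Cfsg.Agent.H229.RIM.Defs

/-!
# S4816, layer (I): the lemma on the alternating group of degree five (helper32's Lemma (A5); helper930)

`five_false`: `Y` is normal in `T`, `T / Y` is the alternating group of degree `5`, `N ≤ Y` is central in `T` and `5` does
not divide `|Y : N|`; then not all irreducible characters of `T` over a linear character of `N` have degree prime to `3`.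

A Sylow `5`-subgroup fixes some `θ ∈ Irr(Y | φ)`; its inertia group has index prime to `3` and `5`, so it is `T`; there are at
most `|C(x)| = 3` characters over `θ`, and the squares of their relative degrees add up to `60`: impossible.
-/

set_option autoImplicit false
set_option linter.style.haveILetI false
set_option linter.unusedSectionVars false

open Cfsg
open scoped Pointwise

namespace Cfsg.Agent.H930.IP

open Cfsg.Agent.H37.NX MulAction
open Cfsg.Agent.Characters.Core Cfsg.Agent.Characters.Clifford Cfsg.Agent.H672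
open Cfsg.Agent.Blocks.Basic Cfsg.Agent.H692.Rel Cfsg.Agent.H697.Rel
open Cfsg.Agent.H586.GW Cfsg.Agent.H37.NW
open Cfsg.Agent.H595.Triple Cfsg.Agent.H595.Central
open Cfsg.Agent.H672.RM (over_lin_iff TSet)

universe u

theorem a5_cent3 : ∀ x : alternatingGroup (Fin 5), x ^ 3 = 1 → x ≠ 1 →
    (Finset.univ.filter (fun y : alternatingGroup (Fin 5) => y * x = x * y)).card ≤ 3 := by
  decide +kernel

theorem card_centralizer_three {S : Type*} [Group S] (e : S ≃* alternatingGroup (Fin 5)) (y : S)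
    (hy : orderOf y = 3) : Nat.card (Subgroup.centralizer ({y} : Set S)) ≤ 3 := by
  classical
  have h1 : orderOf (e y) = 3 := by rw [MulEquiv.orderOf_eq, hy]
  have h2 := a5_cent3 (e y) (by rw [← h1, pow_orderOf_eq_one]) (fun h => by
    rw [h, orderOf_one] at h1
    omega)
  refine le_trans ?_ h2
  rw [← Nat.card_eq_finsetCard]
  refine Nat.card_le_card_of_injective (fun c => ⟨e c, ?_⟩) ?_
  · rw [Finset.mem_filter]
    refine ⟨Finset.mem_univ _, ?_⟩
    have h3 := Subgroup.mem_centralizer_singleton_iff.1 c.2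
    rw [← map_mul, ← map_mul, h3]
  · intro a b hab
    exact Subtype.ext (e.injective (congrArg Subtype.val hab))

/-- `15` and `60` are not sums of three squares. -/
theorem three_squares' {ι : Type*} (s : Finset ι) (f : ι → ℕ) (hs : s.card ≤ 3) {t : ℕ}
    (ht : t = 15 ∨ t = 60) (hsum : ∑ i ∈ s, f i ^ 2 = t) : False := by
  classical
  have hex : ∃ a b c : ℕ, a ^ 2 + b ^ 2 + c ^ 2 = t := by
    have h4 : s.card = 0 ∨ s.card = 1 ∨ s.card = 2 ∨ s.card = 3 := by omega
    rcases h4 with h4 | h4 | h4 | h4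
    · rw [Finset.card_eq_zero] at h4
      subst h4
      rw [Finset.sum_empty] at hsum
      omega
    · obtain ⟨a, rfl⟩ := Finset.card_eq_one.1 h4
      rw [Finset.sum_singleton] at hsum
      exact ⟨f a, 0, 0, by rw [← hsum]; ring⟩
    · obtain ⟨a, b, hab, rfl⟩ := Finset.card_eq_two.1 h4
      rw [Finset.sum_pair hab] at hsum
      exact ⟨f a, f b, 0, by rw [← hsum]; ring⟩
    · obtain ⟨a, b, c, hab, hac, hbc, rfl⟩ := Finset.card_eq_three.1 h4
      rw [Finset.sum_insert (by simp [hab, hac]), Finset.sum_pair hbc] at hsum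
      exact ⟨f a, f b, f c, by rw [← hsum]; ring⟩
  obtain ⟨a, b, c, habc⟩ := hex
  have ha : a ≤ 7 := by
    have : a ^ 2 ≤ 60 := by omega
    nlinarith
  have hb : b ≤ 7 := by
    have : b ^ 2 ≤ 60 := by omega
    nlinarith
  have hc : c ≤ 7 := by
    have : c ^ 2 ≤ 60 := by omega
    nlinarith
  have key : ∀ a b c : Fin 8, (a : ℕ) ^ 2 + (b : ℕ) ^ 2 + (c : ℕ) ^ 2 ≠ 15 ∧
      (a : ℕ) ^ 2 + (b : ℕ) ^ 2 + (c : ℕ) ^ 2 ≠ 60 := by decide +kernel
  have := key ⟨a, by omega⟩ ⟨b, by omega⟩ ⟨c, by omega⟩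
  rcases ht with rfl | rfl
  · exact this.1 habc
  · exact this.2 habc

/-- all characters over a linear character of a central subgroup -/
theorem relP_of {T : Type u} [Group T] [Finite T] {N : Subgroup T} (hN : N ≤ Subgroup.center T) (φ : N →* ℂˣ) {p : ℕ}
    (hdeg : ∀ χ : T → ℂ, IsIrrCharacter T χ → (∀ n : N, χ n = χ 1 * φ n) → ¬ p ∣ charDegree χ) :
    RelP p N.subtype (lf φ) := by
  intro χ hχ hov hd
  rw [charDegree_lf, mul_one] at hd
  have hcen : ∀ n : N, N.subtype n ∈ Subgroup.center T := fun n => hN n.2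
  rw [over_lin_iff N.subtype hcen hχ] at hov
  exact hdeg χ hχ hov hd

/-- **Lemma (A5).** -/
theorem five_false {T : Type u} [Group T] [Finite T] {Y N : Subgroup T} (hY : Y.Normal) (hNY : N ≤ Y)
    (hN : N ≤ Subgroup.center T) (φ : N →* ℂˣ) (hs : IsSimpleGroup (T ⧸ Y)) (h60 : Y.index = 60)
    (h5 : ¬ 5 ∣ N.relIndex Y)
    (hdeg : ∀ χ : T → ℂ, IsIrrCharacter T χ → (∀ n : N, χ n = χ 1 * φ n) → ¬ 3 ∣ charDegree χ) : False := by
  classical
  haveI := hY
  haveI := hs
  haveI : Fact (Nat.Prime 3) := ⟨by norm_num⟩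
  haveI : Fact (Nat.Prime 5) := ⟨by norm_num⟩
  haveI : N.Normal := center_normal N hN
  have hrel := relP_of hN φ hdeg
  obtain ⟨S5⟩ : Nonempty (Sylow 5 T) := inferInstance
  obtain ⟨θ, hθ, hov, hS5⟩ := H676.DL.exists_inv_over (p := 5) N Y hNY (isIrr_lf φ)
    (inertia_central hN _) h5 (S5 : Subgroup T) S5.isPGroup'
  have hrelY := relP_up N hrel (isIrr_lf φ) Y hNY hθ hov
  set I := inertia Y θ with hI
  have hYI : Y ≤ I := le_inertia (isIrr_isClassFunction hθ)
  have h3I : ¬ 3 ∣ I.index := hrelY.not_dvd_index Y hθ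
  have h5I : ¬ 5 ∣ I.index := fun h => S5.not_dvd_index (h.trans (Subgroup.index_dvd_of_le hS5))
  have hmul : Y.relIndex I * I.index = 60 := by rw [Subgroup.relIndex_mul_index hYI, h60]
  have h15 : 15 ∣ Y.relIndex I := by
    have h1 : 3 ∣ Y.relIndex I * I.index := by rw [hmul]; norm_num
    have h2 : 5 ∣ Y.relIndex I * I.index := by rw [hmul]; norm_num
    have h3 := ((by norm_num : Nat.Prime 3).dvd_mul.1 h1).resolve_right h3I
    have h4 := ((by norm_num : Nat.Prime 5).dvd_mul.1 h2).resolve_right h5I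
    exact Nat.Coprime.mul_dvd_of_dvd_of_dvd (by norm_num) h3 h4
  have h2I : I.index ≠ 2 := by
    intro h2
    haveI : I.Normal := Subgroup.normal_of_index_eq_two h2
    haveI : (I.map (QuotientGroup.mk' Y)).Normal :=
      Subgroup.Normal.map inferInstance _ (QuotientGroup.mk'_surjective Y)
    have h3 : (I.map (QuotientGroup.mk' Y)).index = 2 := by
      rw [Subgroup.index_map_eq I (QuotientGroup.mk'_surjective Y) (by rwa [QuotientGroup.ker_mk']), h2]
    rcases IsSimpleGroup.eq_bot_or_eq_top_of_normal _ (inferInstance : (I.map (QuotientGroup.mk' Y)).Normal) with h | h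
    · rw [h, Subgroup.index_bot] at h3
      change Y.index = 2 at h3
      omega
    · rw [h, Subgroup.index_top] at h3
      omega
  have ht : Y.relIndex I = 15 ∨ Y.relIndex I = 60 := by
    obtain ⟨d, hd⟩ := h15
    rw [hd] at hmul
    have h1 : d * I.index = 4 := by nlinarith
    have h2 : d ∣ 4 := ⟨_, h1.symm⟩
    have h3 : d ≤ 4 := Nat.le_of_dvd (by norm_num) h2
    interval_cases d
    · omega
    · left; omega
    · exfalso; omega
    · omega
    · right; omega
  have hrI := relP_subgroupOf Y I hYI (hrelY.inertia Y hθ I hI hYI)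
  obtain ⟨Δ, X, i1, i2, i3, π, m, Z, l, hπ, hm, hc, hZc, h1, -⟩ :=
    exists_triple' (p := 3) (Y.subgroupOf I) (H676.DL.isIrr_sub Y I hYI hθ)
      (H676.DL.inertia_sub Y hYI (θ := θ) (T := I) le_rfl)
  have hrX := h1 hrI
  -- the map to `T / Y`
  let g : Δ →* T ⧸ Y := ((QuotientGroup.mk' Y).comp I.subtype).comp π
  have hg : g.ker = Z.comap m := by
    rw [← hc]
    ext x
    rw [MonoidHom.mem_ker, Subgroup.mem_comap, Subgroup.mem_subgroupOf]
    exact QuotientGroup.eq_one_iff _
  have hmg : m.ker ≤ g.ker := by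
    rw [hg]
    intro x hx
    rw [Subgroup.mem_comap, MonoidHom.mem_ker.1 hx]
    exact one_mem _
  let τ : X →* T ⧸ Y := m.liftOfSurjective hm ⟨g, hmg⟩
  have hτ : ∀ x, τ (m x) = g x := fun x =>
    MonoidHom.liftOfRightInverse_comp_apply m _ (Function.rightInverse_surjInv hm) ⟨g, hmg⟩ x
  have hτk : τ.ker = Z := by
    ext x
    obtain ⟨y, rfl⟩ := hm x
    rw [MonoidHom.mem_ker, hτ, ← MonoidHom.mem_ker, hg, Subgroup.mem_comap]
  have hcard : Nat.card τ.range = Y.relIndex I := by
    rw [← Subgroup.index_ker, hτk, ← Subgroup.index_comap_of_surjective Z hm, ← hc,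
      Subgroup.index_comap_of_surjective _ hπ]
    rfl
  obtain ⟨e⟩ := Cfsg.Agent.S0494.result (G := T ⧸ Y) h60
  have hZ : (τ.rangeRestrict).ker = Z := (MonoidHom.ker_rangeRestrict τ).trans hτk
  subst hZ
  letI := Fintype.ofFinite X
  haveI := finite_irr (G := X)
  letI := Fintype.ofFinite (IrrCharacter X)
  have h3c : 3 ∣ Nat.card τ.range := by
    rw [hcard]
    exact (by norm_num : 3 ∣ 15).trans h15
  obtain ⟨y, hy⟩ := exists_prime_orderOf_dvd_card' (G := τ.range) 3 h3c
  have h6 := card_over_le τ.rangeRestrict_surjective hZc l (by norm_num : Nat.Prime 3) (by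
    intro χ hχ hov hd
    have h2 := hrX χ hχ ((Cfsg.Agent.H692.Rel.ov_iff_over hZc l hχ).1 hov)
    rw [charDegree_lf, mul_one] at h2
    exact h2 hd) ⟨1, by rw [hy, pow_one]⟩
  have h7 := sum_degree τ.rangeRestrict_surjective hZc l
  refine three_squares' (irrOver (τ.rangeRestrict).ker l) (fun χ => charDegree (χ : X → ℂ)) (h6.trans ?_) ht
    (h7.trans hcard)
  have h2 : orderOf (y : T ⧸ Y) = 3 := by rw [Subgroup.orderOf_coe, hy]
  refine le_trans ?_ (card_centralizer_three e (y : T ⧸ Y) h2)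
  refine Nat.card_le_card_of_injective
    (fun x => ⟨((x : τ.range) : T ⧸ Y), ?_⟩) ?_
  · rw [Subgroup.mem_centralizer_singleton_iff]
    have := Subgroup.mem_centralizer_singleton_iff.1 x.2
    exact congrArg Subtype.val this
  · intro a b hab
    have h3 : ((a : τ.range) : T ⧸ Y) = (b : τ.range) :=
      congrArg (fun z : Subgroup.centralizer ({(y : T ⧸ Y)} : Set (T ⧸ Y)) => (z : T ⧸ Y)) hab
    exact Subtype.ext (Subtype.ext h3)

open Cfsg.Agent.H229.RIM in
/-- the case `H / K` of order `60` of the core situation, `5` prime to `|K : N|` -/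
theorem coreP_five_false {H V : Type u} [Group H] [Finite H] [AddCommGroup V] [Finite V] [DistribMulAction H V]
    {K N : Subgroup H} {φ : N →* ℂˣ} (C : CoreP (V := V) 3 K N φ) (h60 : K.index = 60) (h5 : ¬ 5 ∣ N.relIndex K) :
    False := by
  refine five_false C.nK C.NK C.cen φ C.simp h60 h5 ?_
  intro χ hχ hov hd
  have hsur : Function.Surjective (stabilizer H (0 : V)).subtype := by
    intro h
    exact ⟨⟨h, by rw [mem_stabilizer_iff, smul_zero]⟩, rfl⟩
  refine C.P2 0 (χ ∘ (stabilizer H (0 : V)).subtype) (isIrr_comp _ hsur hχ) ?_ ?_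
  · intro n hn hn'
    exact hov ⟨n, hn⟩
  · have h2 : charDegree (χ ∘ (stabilizer H (0 : V)).subtype) = charDegree χ := by
      rw [Blocks.Basic.charDegree_def, Blocks.Basic.charDegree_def, Function.comp, map_one]
    rwa [h2]

end Cfsg.Agent.H930.IP
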