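import Cfsg.Agent.H930.IP.Kd
import Cfsg.Agent.H930.IP.AFive
import Cfsg.Agent.H880.RIM.End
import Cfsg.Agent.H600.RIM.Row

/-!
# S4816, layer (I), alternating case: the pure case is impossible (helper930)

`pure_false`: `ImpW p p` of alternating type with `2 p ≤ |B| + 1`, the `p`-elements trivial on the blocks they fix, `Q`
transitive on the nonzero vectors of the blocks, vector stabilizers of transitive linear `p'`-groups abelian: impossible.
-/

set_option autoImplicit false
set_option linter.unusedSectionVars false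
set_option linter.style.haveILetI false

open Cfsg
open scoped Pointwise

namespace Cfsg.Agent.H930.IP

open Equiv MulAction
open Cfsg.Agent.H32.NY.A32 Cfsg.Agent.H32.NX9
open Cfsg.Agent.H665.RIM (NBall NB)

universe u

theorem card_a5 : Nat.card (alternatingGroup (Fin 5)) = 60 := by
  rw [Nat.card_eq_fintype_card]
  decide +kernel

/-- The alternating group of degree `5` is not bad at `3`. -/
theorem nball_a5 {S : Type u} [Group S] [Finite S] (e : S ≃* alternatingGroup (Fin 5)) : NBall 3 S := by
  intro m hm2 hpm E _ _ π hsurj hcen hperf hcard l hl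
  by_contra hcon
  push Not at hcon
  let f : E ⧸ π.ker ≃* alternatingGroup (Fin 5) := (QuotientGroup.quotientKerEquivOfSurjective π hsurj).trans e
  haveI : IsSimpleGroup (alternatingGroup (Fin 5)) := alternatingGroup.isSimpleGroup (by simp)
  haveI : IsSimpleGroup (E ⧸ π.ker) := f.isSimpleGroup
  have h60 : π.ker.index = 60 := by
    change Nat.card (E ⧸ π.ker) = 60
    rw [Nat.card_congr f.toEquiv, card_a5]
  refine five_false (Y := π.ker) (N := π.ker) inferInstance le_rfl hcen l inferInstance h60 ?_ hcon
  rw [Subgroup.relIndex_self]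
  omega

variable {p : ℕ} {H V B : Type u} [Group H] [Finite H] [AddCommGroup V] [Finite V]
  [DistribMulAction H V] [Finite B] [MulAction H B] {W : B → AddSubgroup V} {K N Q : Subgroup H}
  {φ : N →* ℂˣ}

/-- **The pure alternating case is impossible.** -/
theorem pure_false [hp : Fact p.Prime] (him : Cfsg.Agent.H37.NX.IM.{u} p) (hab : AbelStmt.{u} p)
    (I : ImpW (V := V) p p W K N Q φ) (hQK : Q = K) (hA : IsAlt H B)
    (h58 : (p = 3 ∧ Nat.card B = 5) ∨ 8 ≤ Nat.card B) (h2p : 2 * p ≤ Nat.card B + 1)
    (pure : ∀ x : H, (∃ k, x ^ p ^ k = 1) → ∀ i : B, x • i = i → ∀ w ∈ W i, x • w = w)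
    (trQ : ∀ i, ∀ a ∈ W i, ∀ b ∈ W i, a ≠ 0 → b ≠ 0 → ∃ k ∈ Q, k • a = b) : False := by
  classical
  letI : Fintype B := Fintype.ofFinite B
  have hA' : ∀ σ : Perm B, Perm.sign σ = 1 ↔ ∃ h : H, ∀ b, h • b = σ b := by
    obtain ⟨i1, i2, h⟩ := hA
    intro σ
    convert h σ
  have hcB : Nat.card B = Fintype.card B := Nat.card_eq_fintype_card
  rw [hcB] at h58 h2p
  obtain ⟨v, C, iC, c, D⟩ := exists_kdata hab I hQK hA' h2p pure trQ
  have hp3 : 3 ≤ p := by
    have h1 := I.hp.two_le
    have h2 := I.core.odd
    omega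
  let f : (N.subgroupOf (stabilizer H v)) →* N :=
    { toFun := fun x => ⟨((x : stabilizer H v) : H), Subgroup.mem_subgroupOf.1 x.2⟩
      map_one' := rfl
      map_mul' := fun x y => rfl }
  have hf : Function.Injective f := by
    intro x y hxy
    exact Subtype.ext (Subtype.ext (congrArg (fun n : N => (n : H)) hxy))
  have hkerQ : ∀ h : H, toPermHom H B h = 1 ↔ h ∈ Q := by
    intro h
    rw [I.memQ]
    constructor
    · intro h1 i
      exact congrArg (fun s : Perm B => s i) h1
    · intro h1
      exact Perm.ext h1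
  have hker : (toPermHom H B).ker = K := by
    ext h
    rw [MonoidHom.mem_ker, hkerQ, hQK]
  have hρ : (toPermHom H B).range = alternatingGroup B := by
    ext σ
    rw [Perm.mem_alternatingGroup, hA' σ]
    constructor
    · rintro ⟨h, rfl⟩
      exact ⟨h, fun b => rfl⟩
    · rintro ⟨h, hh⟩
      exact ⟨h, Perm.ext hh⟩
  have hpn : p ∣ Nat.card (alternatingGroup B) := by
    rw [← hρ, ← Subgroup.index_ker, hker]
    exact I.core.pS
  let e : alternatingGroup B ≃* alternatingGroup (Fin (Fintype.card B)) :=
    (Fintype.equivFin B).altCongrHom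
  refine Cfsg.Agent.H880.RIM.end_false him D (by omega) hpn ?_ (φ.comp f) (I.core.inj.comp hf) ?_ ?_
  · rcases h58 with ⟨rfl, h5⟩ | h8
    · right
      intro hd
      apply I.core.pK
      refine hd.trans ?_
      let ρ := (toPermHom H B).comp (stabilizer H v).subtype
      have h1 : Nat.card (ρ.ker.map (stabilizer H v).subtype) = Nat.card ρ.ker :=
        Subgroup.card_map_of_injective (Subgroup.subtype_injective _)
      rw [show ((toPermHom H B).comp (stabilizer H v).subtype).ker = ρ.ker from rfl, ← h1]
      apply Subgroup.card_dvd_of_le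
      rintro _ ⟨x, hx, rfl⟩
      rw [← hker]
      exact hx
    · left; omega
  · intro χ hχ hov hd
    exact I.core.P2 v χ hχ (fun n hn hn' => hov ⟨⟨n, hn'⟩, Subgroup.mem_subgroupOf.2 hn⟩) hd
  · rcases h58 with ⟨rfl, h5⟩ | h8
    · rw [h5] at e
      exact nball_a5 e
    · exact Cfsg.Agent.H600.RIM.nball_alt h8 e I.hp I.core.odd (by omega) (by omega)

end Cfsg.Agent.H930.IP
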