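import Cfsg.Agent.H930.IP.Mono

/-!
# S4816, layer (I): the blocks of a system of imprimitivity as a monomial cocycle (helper930)

`exists_pure_blocks`: an element outside the kernel on the blocks that is trivial on the blocks it fixes gives
identifications `τ i : W b₀ → W i` of all blocks, compatible with lifts of all even permutations, and the kernel on the
blocks is the group of all `f : B → L` with product in `L'`.
-/

set_option autoImplicit false
set_option linter.unusedSectionVars false

namespace Cfsg.Agent.H930.IP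

open Equiv MulAction

section blocks

variable {H V B : Type*} [Group H] [AddCommGroup V] [DistribMulAction H V] [MulAction H B] {W : B → AddSubgroup V}

/-- the stabilizer of a block acts on the block -/
def blkHom (hW : ∀ (h : H) (i : B) (v : V), v ∈ W i → h • v ∈ W (h • i)) (b : B) :
    stabilizer H b →* (W b ≃ₗ[ℤ] W b) where
  toFun h := AddEquiv.toIntLinearEquiv
    { toFun := fun u => ⟨(h : H) • (u : V), by
        have h1 := hW h b u u.2
        rwa [mem_stabilizer_iff.1 h.2] at h1⟩
      invFun := fun u => ⟨(h : H)⁻¹ • (u : V), by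
        have h1 := hW (h : H)⁻¹ b u u.2
        rwa [mem_stabilizer_iff.1 ((stabilizer H b).inv_mem h.2)] at h1⟩
      left_inv := fun u => Subtype.ext (inv_smul_smul _ _)
      right_inv := fun u => Subtype.ext (smul_inv_smul _ _)
      map_add' := fun u v => Subtype.ext (smul_add _ _ _) }
  map_one' := by
    ext u
    exact one_smul H (u : V)
  map_mul' x y := by
    ext u
    exact mul_smul (x : H) (y : H) (u : V)

theorem blkHom_apply (hW : ∀ (h : H) (i : B) (v : V), v ∈ W i → h • v ∈ W (h • i)) (b : B) (h : stabilizer H b)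
    (u : W b) : ((blkHom hW b h u : W b) : V) = (h : H) • (u : V) := rfl

variable (hW : ∀ (h : H) (i : B) (v : V), v ∈ W i → h • v ∈ W (h • i)) {b₀ : B} {t : B → H}
  (ht : ∀ i, t i • b₀ = i)

/-- the cocycle -/
def blkMono : Mono H B (W b₀ ≃ₗ[ℤ] W b₀) where
  ρ := toPermHom H B
  e x j := blkHom hW b₀ ⟨(t (x • j))⁻¹ * x * t j, by
    rw [mem_stabilizer_iff, mul_smul, mul_smul, ht, inv_smul_eq_iff, ht]⟩
  mul x y j := by
    rw [← map_mul]
    congr 1
    apply Subtype.ext
    change (t ((x * y) • j))⁻¹ * (x * y) * t j = (t (x • (y • j)))⁻¹ * x * t (y • j) * ((t (y • j))⁻¹ * y * t j)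
    rw [mul_smul]
    group

theorem blkMono_ρ (x : H) (j : B) : (blkMono hW ht).ρ x j = x • j := rfl

theorem blkMono_apply (x : H) (j : B) (u : W b₀) :
    t (x • j) • ((((blkMono hW ht).e x j) u : W b₀) : V) = x • t j • (u : V) := by
  change t (x • j) • (((t (x • j))⁻¹ * x * t j) • (u : V)) = _
  rw [mul_smul, mul_smul, smul_inv_smul]

theorem blkMono_e_eq_one {x : H} {j : B} (hj : x • j = j) (h1 : ∀ v ∈ W j, x • v = v) : (blkMono hW ht).e x j = 1 := by
  ext u
  change ((((blkMono hW ht).e x j) u : W b₀) : V) = u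
  have h2 := blkMono_apply hW ht x j u
  have h3 : t j • (u : V) ∈ W j := by
    have := hW (t j) b₀ u u.2
    rwa [ht] at this
  rw [h1 _ h3, hj] at h2
  exact (smul_left_cancel_iff _).1 h2

end blocks

/-- **The structure of the blocks.** -/
theorem exists_pure_blocks {H V B : Type*} [Group H] [AddCommGroup V] [DistribMulAction H V] [MulAction H B]
    [Fintype B] [DecidableEq B] (W : B → AddSubgroup V)
    (hW : ∀ (h : H) (i : B) (v : V), v ∈ W i → h • v ∈ W (h • i)) [IsPretransitive H B]
    (h5 : 5 ≤ Fintype.card B) (hρ : (toPermHom H B).range = alternatingGroup B) (hperf : commutator H = ⊤)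
    (hmax : ∀ M : Subgroup H, M.Normal → M ≠ ⊤ → M ≤ (toPermHom H B).ker) {x : H} (hx1 : toPermHom H B x ≠ 1)
    (hx : ∀ i, x • i = i → ∀ v ∈ W i, x • v = v)
    (hn : 2 * (toPermHom H B x).support.card ≤ Fintype.card B + 1) (b₀ : B) :
    ∃ (τ : B → (W b₀ →+ V)) (L : Subgroup (W b₀ ≃ₗ[ℤ] W b₀)) (e : H → B → L),
      (∀ i, Function.Injective (τ i)) ∧ (∀ i, (τ i).range = W i) ∧ (∀ u : W b₀, τ b₀ u = u) ∧
      (∀ x y j, e (x * y) j = e x (y • j) * e y j) ∧
      (∀ (x : H) (j : B) (u : W b₀), x • τ j u = τ (x • j) ((e x j : W b₀ ≃ₗ[ℤ] W b₀) u)) ∧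
      (∀ σ ∈ alternatingGroup B, ∃ x : H, (∀ j : B, x • j = σ j) ∧ ∀ j, e x j = 1) ∧
      (∀ f : B → L, (∃ k : H, (∀ j : B, k • j = j) ∧ ∀ j, e k j = f j) ↔ ∏ j, Abelianization.of (f j) = 1) := by
  classical
  have ht0 : ∀ i : B, ∃ t : H, t • b₀ = i := fun i => exists_smul_eq H b₀ i
  choose t' ht' using ht0
  let t : B → H := fun i => if i = b₀ then 1 else t' i
  have ht : ∀ i, t i • b₀ = i := fun i => by
    change (if i = b₀ then (1 : H) else t' i) • b₀ = i
    split_ifs with h
    · rw [one_smul, h]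
    · exact ht' i
  have htb : t b₀ = 1 := if_pos rfl
  let m := blkMono hW ht
  obtain ⟨c, i, j, k, hc⟩ := Mono.exists_P3_of_pure (m := m) hρ.ge hx1
    (fun j hj => blkMono_e_eq_one hW ht hj (hx j hj)) hn
  obtain ⟨d, L, hd, hL, hpure, hker⟩ := m.main h5 hρ hperf hmax hc b₀
  let τ : B → (W b₀ →+ V) := fun i =>
    { toFun := fun u => t i • ((d i u : W b₀) : V)
      map_zero' := by rw [map_zero, AddSubgroup.coe_zero, smul_zero]
      map_add' := fun u v => by rw [map_add, AddSubgroup.coe_add, smul_add] }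
  have hτ : ∀ i u, τ i u = t i • ((d i u : W b₀) : V) := fun _ _ => rfl
  refine ⟨τ, L, fun x j => ⟨(m.gauge d).e x j, hL x j⟩, ?_, ?_, ?_, ?_, ?_, ?_, ?_⟩
  · intro i u v huv
    rw [hτ, hτ, smul_left_cancel_iff] at huv
    exact (d i).injective (Subtype.ext huv)
  · intro i
    ext v
    constructor
    · rintro ⟨u, rfl⟩
      have := hW (t i) b₀ _ (d i u).2
      rwa [ht] at this
    · intro hv
      have h1 : (t i)⁻¹ • v ∈ W b₀ := by
        have h2 := hW (t i)⁻¹ i v hv
        have h3 : (t i)⁻¹ • i = b₀ := by rw [inv_smul_eq_iff, ht]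
        rwa [h3] at h2
      refine ⟨(d i).symm ⟨_, h1⟩, ?_⟩
      rw [hτ, LinearEquiv.apply_symm_apply]
      exact smul_inv_smul _ _
  · intro u
    rw [hτ, hd, htb, one_smul]
    rfl
  · intro x y j
    exact Subtype.ext ((m.gauge d).mul x y j)
  · intro x j u
    rw [hτ, hτ, ← blkMono_apply hW ht x j (d j u)]
    congr 1
    change _ = ((d (x • j) (((d (x • j))⁻¹ * m.e x j * d j) u) : W b₀) : V)
    rw [LinearEquiv.mul_apply, LinearEquiv.mul_apply]
    congr 1
    exact ((d (x • j)).apply_symm_apply _).symm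
  · intro σ hσ
    obtain ⟨x, h1, h2⟩ := hpure σ hσ
    exact ⟨x, fun j => by rw [← h1]; rfl, fun j => Subtype.ext (h2 j)⟩
  · intro f
    rw [← hker f]
    constructor
    · rintro ⟨k, h1, h2⟩
      exact ⟨k, Perm.ext fun j => h1 j, fun j => congrArg Subtype.val (h2 j)⟩
    · rintro ⟨k, h1, h2⟩
      exact ⟨k, fun j => by
        have := congrArg (fun s : Perm B => s j) h1
        exact this, fun j => Subtype.ext (h2 j)⟩

end Cfsg.Agent.H930.IP
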