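import Cfsg.Agent.H930.IP.Glue
import Cfsg.Agent.H880.RIM.Inv
import Cfsg.Agent.H32.NY.Defs
import Cfsg.Agent.H37.NX.TripNum

/-!
# S4816, layer (I), alternating case: the stabilizer of a vector with equal entries (helper930)

`exists_kdata`: in the situation `ImpW p p` of alternating type, if the `p`-elements are trivial on the blocks they fix,
`Q` is transitive on the nonzero vectors of the blocks, and vector stabilizers of transitive linear `p'`-groups are abelian
(`AbelStmt p`), then the stabilizer of `v = ∑ τ_i e` is as in helper880's `KData`.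
-/

set_option autoImplicit false
set_option linter.unusedSectionVars false
set_option linter.style.haveILetI false

open Cfsg
open scoped Pointwise

namespace Cfsg.Agent.H930.IP

open Equiv MulAction
open Cfsg.Agent.H32.NY.A32 Cfsg.Agent.H32.NX9

universe u v w

/-- Vector stabilizers of transitive linear `p'`-groups are abelian. -/
def AbelStmt (p : ℕ) : Prop :=
  ∀ {W : Type v} [AddCommGroup W] [Finite W] (L : Subgroup (W ≃ₗ[ℤ] W)), (∀ v : W, p • v = 0) →
    ¬ p ∣ Nat.card L → (∀ a b : W, a ≠ 0 → b ≠ 0 → ∃ g ∈ L, g a = b) →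
    ∀ e : W, e ≠ 0 → ∀ a ∈ L, ∀ b ∈ L, a e = e → b e = e → ∀ v, a (b v) = b (a v)

theorem sum_inj {V B : Type*} [AddCommGroup V] [Fintype B] {W : B → AddSubgroup V} (ind : iSupIndep W)
    {f g : B → V} (hf : ∀ i, f i ∈ W i) (hg : ∀ i, g i ∈ W i) (h : ∑ i, f i = ∑ i, g i) (i : B) : f i = g i := by
  classical
  have h1 : f i - g i ∈ W i := sub_mem (hf i) (hg i)
  have h2 : f i - g i = ∑ j ∈ Finset.univ.erase i, (g j - f j) := by
    rw [Finset.sum_sub_distrib, sub_eq_sub_iff_add_eq_add, add_comm (∑ x ∈ Finset.univ.erase i, g x),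
      Finset.add_sum_erase _ _ (Finset.mem_univ i), Finset.add_sum_erase _ _ (Finset.mem_univ i)]
    exact h
  have h3 : f i - g i ∈ ⨆ j, ⨆ (_ : j ≠ i), W j := by
    rw [h2]
    refine sum_mem fun j hj => ?_
    have hj' : j ≠ i := Finset.ne_of_mem_erase hj
    exact (le_iSup₂ (f := fun j (_ : j ≠ i) => W j) j hj') (sub_mem (hg j) (hf j))
  have h4 : f i - g i ∈ (⊥ : AddSubgroup V) := by
    rw [← (ind i).eq_bot]
    exact ⟨h1, h3⟩
  exact sub_eq_zero.1 (AddSubgroup.mem_bot.1 h4)

/-- a `p`-element of `H` over a `p`-cycle -/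
theorem exists_pcycle {H B : Type*} [Group H] [Finite H] [MulAction H B] [Fintype B] [DecidableEq B] {p : ℕ}
    (hp : p.Prime) (hp2 : p ≠ 2) (hB : p ≤ Fintype.card B)
    (hA : ∀ σ : Perm B, Perm.sign σ = 1 → ∃ h : H, ∀ b, h • b = σ b) :
    ∃ x : H, (∃ k, x ^ p ^ k = 1) ∧ toPermHom H B x ≠ 1 ∧ (toPermHom H B x).support.card = p := by
  classical
  obtain ⟨σ, hσ⟩ : ∃ σ : Perm B, σ.cycleType = {p} := by
    rw [Perm.exists_with_cycleType_iff]
    refine ⟨by rw [Multiset.sum_singleton]; exact hB, ?_⟩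
    intro a ha
    rw [Multiset.mem_singleton] at ha
    rw [ha]
    exact hp.two_le
  have hs : Perm.sign σ = 1 := by
    rw [Perm.sign_of_cycleType, hσ, Multiset.sum_singleton, Multiset.card_singleton]
    have h1 : Even (p + 1) := (hp.odd_of_ne_two hp2).add_one
    exact h1.neg_one_pow
  have hsup : σ.support.card = p := by
    rw [← Perm.sum_cycleType, hσ, Multiset.sum_singleton]
  have hord : orderOf σ = p := by
    rw [← Perm.lcm_cycleType, hσ, Multiset.lcm_singleton]
    simp
  obtain ⟨h, hh⟩ := hA σ hs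
  have hhσ : toPermHom H B h = σ := Perm.ext hh
  have hσr : σ ∈ (toPermHom H B).range := ⟨h, hhσ⟩
  obtain ⟨x, hx, j, hj⟩ := Cfsg.Agent.H37.NX.exists_plift (σ := (toPermHom H B).rangeRestrict)
    (MonoidHom.rangeRestrict_surjective _) hp (k := 1) (x := ⟨σ, hσr⟩) (by
      rw [Subgroup.orderOf_mk, hord, pow_one])
  have hx' : toPermHom H B x = σ := congrArg Subtype.val hx
  refine ⟨x, ⟨j, by rw [← hj, pow_orderOf_eq_one]⟩, ?_, ?_⟩
  · rw [hx']
    intro h1
    rw [h1, orderOf_one] at hord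
    exact hp.one_lt.ne hord
  · rw [hx', hsup]

section main

variable {p : ℕ} {H : Type u} {V : Type v} {B : Type w} [Group H] [Finite H] [AddCommGroup V] [Finite V]
  [DistribMulAction H V] [Fintype B] [DecidableEq B] [MulAction H B] {W : B → AddSubgroup V} {K N Q : Subgroup H}
  {φ : N →* ℂˣ}

/-- **The stabilizer of a vector with equal entries.** -/
theorem exists_kdata (hab : AbelStmt.{v} p) (I : ImpW (V := V) p p W K N Q φ) (hQK : Q = K)
    (hA : ∀ σ : Perm B, Perm.sign σ = 1 ↔ ∃ h : H, ∀ b, h • b = σ b)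
    (h2p : 2 * p ≤ Fintype.card B + 1)
    (pure : ∀ x : H, (∃ k, x ^ p ^ k = 1) → ∀ i : B, x • i = i → ∀ w ∈ W i, x • w = w)
    (trQ : ∀ i, ∀ a ∈ W i, ∀ b ∈ W i, a ≠ 0 → b ≠ 0 → ∃ k ∈ Q, k • a = b) :
    ∃ (v : V) (C : Type v) (_ : CommGroup C) (c : stabilizer H v → B → C),
      Cfsg.Agent.H880.RIM.KData ((toPermHom H B).comp (stabilizer H v).subtype) c
        (N.subgroupOf (stabilizer H v)) := by
  classical
  have hp3 : 3 ≤ p := by
    have h1 := I.hp.two_le
    have h2 := I.core.odd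
    omega
  have hcardB : p + 2 ≤ Fintype.card B := by
    have := I.card
    rwa [Nat.card_eq_fintype_card] at this
  have h5 : 5 ≤ Fintype.card B := by omega
  obtain ⟨b₀⟩ : Nonempty B := Fintype.card_pos_iff.1 (by omega)
  -- other points
  have fresh : ∀ s : Finset B, s.card < Fintype.card B → ∃ k, k ∉ s := by
    intro s hs
    by_contra hc
    push Not at hc
    have h1 : (Finset.univ : Finset B) ⊆ s := fun k _ => hc k
    have h2 := Finset.card_le_card h1
    rw [Finset.card_univ] at h2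
    omega
  have htr : ∀ i j : B, ∃ h : H, h • i = j := by
    intro i j
    by_cases hij : i = j
    · exact ⟨1, by rw [one_smul, hij]⟩
    obtain ⟨k, hk⟩ := fresh {i, j} (Finset.card_le_two.trans_lt (by omega))
    obtain ⟨hki, hkj⟩ : k ≠ i ∧ k ≠ j := by simpa using hk
    obtain ⟨h, h1, -, -⟩ := I.t3 i j k j i k hij (Ne.symm hki) (Ne.symm hkj) (Ne.symm hij) (Ne.symm hkj)
      (Ne.symm hki)
    exact ⟨h, h1⟩
  haveI : IsPretransitive H B := ⟨fun i j => htr i j⟩
  have hW : ∀ (h : H) (i : B) (v : V), v ∈ W i → h • v ∈ W (h • i) := fun h i v hv => by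
    rw [← I.smulW]
    exact AddSubgroup.smul_mem_pointwise_smul _ _ _ hv
  have hρ : (toPermHom H B).range = alternatingGroup B := by
    ext σ
    rw [Perm.mem_alternatingGroup, hA σ]
    constructor
    · rintro ⟨h, rfl⟩
      exact ⟨h, fun b => rfl⟩
    · rintro ⟨h, hh⟩
      exact ⟨h, Perm.ext hh⟩
  have hkerQ : ∀ h : H, toPermHom H B h = 1 ↔ h ∈ Q := by
    intro h
    rw [I.memQ]
    constructor
    · intro h1 i
      exact congrArg (fun s : Perm B => s i) h1
    · intro h1
      exact Perm.ext h1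
  obtain ⟨x, hx1, hx2, hx3⟩ := exists_pcycle I.hp I.core.odd (by omega) (fun σ hσ => (hA σ).1 hσ)
  obtain ⟨τ, L, e, τinj, τran, τb, emul, esm, epure, eker⟩ := exists_pure_blocks W hW h5 hρ I.core.perf
    (fun M hM hMt => by
      intro m hm
      rw [MonoidHom.mem_ker, hkerQ, hQK]
      exact I.core.maxK M hM hMt hm)
    hx2 (fun i hi w hw => pure x hx1 i hi w hw) (by rw [hx3]; exact h2p) b₀
  have τmem : ∀ i u, τ i u ∈ W i := fun i u => by
    rw [← τran i]
    exact ⟨u, rfl⟩
  -- the kernel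
  have ek : ∀ k : H, ∀ j : B, (∀ i : B, k • i = i) → ∀ u, k • τ j u = τ j ((e k j : W b₀ ≃ₗ[ℤ] W b₀) u) := by
    intro k j hk u
    rw [esm, hk j]
  have hLs : ∀ a : L, ∃ k : H, (∀ j : B, k • j = j) ∧ e k b₀ = a := by
    intro a
    obtain ⟨j₁, hj₁⟩ := fresh {b₀} (by rw [Finset.card_singleton]; omega)
    have hj₁' : j₁ ≠ b₀ := by simpa using hj₁
    obtain ⟨k, hk1, hk2⟩ := (eker (fun j => if j = b₀ then a else if j = j₁ then a⁻¹ else 1)).2 (by
      have h1 : ∀ j : B, Abelianization.of (if j = b₀ then a else if j = j₁ then a⁻¹ else 1) =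
          (if j = b₀ then Abelianization.of a else 1) * (if j = j₁ then (Abelianization.of a)⁻¹ else 1) := by
        intro j
        by_cases h1 : j = b₀
        · have h2 : j ≠ j₁ := fun h => hj₁' (h ▸ h1)
          rw [if_pos h1, if_pos h1, if_neg h2, mul_one]
        · rw [if_neg h1, if_neg h1, one_mul]
          by_cases h2 : j = j₁
          · rw [if_pos h2, if_pos h2, map_inv]
          · rw [if_neg h2, if_neg h2, map_one]
      rw [Finset.prod_congr rfl fun j _ => h1 j, Finset.prod_mul_distrib, Finset.prod_ite_eq',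
        Finset.prod_ite_eq', if_pos (Finset.mem_univ _), if_pos (Finset.mem_univ _), mul_inv_cancel])
    exact ⟨k, hk1, by rw [hk2, if_pos rfl]⟩
  -- `L` is a `p'`-group
  have hLp : ¬ p ∣ Nat.card L := by
    intro hd
    let κ : Q →* L :=
      { toFun := fun k => e (k : H) b₀
        map_one' := by
          have h1 := emul 1 1 b₀
          rw [one_mul, one_smul, left_eq_mul] at h1
          exact h1
        map_mul' := fun k k' => by
          change e ((k : H) * k') b₀ = _
          rw [emul, (I.memQ k').1 k'.2 b₀] }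
    have hκ : Function.Surjective κ := by
      intro a
      obtain ⟨k, hk, hk2⟩ := hLs a
      exact ⟨⟨k, (I.memQ k).2 hk⟩, hk2⟩
    have h1 : Nat.card L ∣ Nat.card Q := Subgroup.card_dvd_of_surjective κ hκ
    have h2 : Nat.card Q ∣ Nat.card K := Subgroup.card_dvd_of_le I.QK
    exact I.core.pK (hd.trans (h1.trans h2))
  have hexp : ∀ u : W b₀, p • u = 0 := fun u => Subtype.ext (by
    rw [AddSubgroup.coe_nsmul, I.core.exp, AddSubgroup.coe_zero])
  have hLt : ∀ a b : W b₀, a ≠ 0 → b ≠ 0 → ∃ g ∈ L, g a = b := by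
    intro a b ha hb
    obtain ⟨k, hk, hkab⟩ := trQ b₀ a a.2 b b.2 (fun h => ha (Subtype.ext h)) (fun h => hb (Subtype.ext h))
    refine ⟨e k b₀, (e k b₀).2, ?_⟩
    have h1 := ek k b₀ ((I.memQ k).1 hk) a
    rw [τb, τb, hkab] at h1
    exact Subtype.ext h1.symm
  -- a nonzero vector
  obtain ⟨e₀, he₀⟩ : ∃ e₀ : W b₀, e₀ ≠ 0 := by
    by_contra hc
    push Not at hc
    have h1 : ∀ i, W i = ⊥ := by
      intro i
      rw [eq_bot_iff, ← τran i]
      rintro _ ⟨u, rfl⟩
      rw [hc u, map_zero]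
      exact zero_mem _
    have h2 : (⊥ : AddSubgroup V) = ⊤ := by
      rw [← I.top]
      simp only [h1, iSup_bot]
    haveI := I.core.nt
    exact bot_ne_top h2
  have hcomm := hab L hexp hLp hLt e₀ he₀
  let C : Subgroup L :=
    { carrier := {a | (a : W b₀ ≃ₗ[ℤ] W b₀) e₀ = e₀}
      one_mem' := rfl
      mul_mem' := fun {a b} ha hb => by
        change (a : W b₀ ≃ₗ[ℤ] W b₀) ((b : W b₀ ≃ₗ[ℤ] W b₀) e₀) = e₀
        rw [show (b : W b₀ ≃ₗ[ℤ] W b₀) e₀ = e₀ from hb, show (a : W b₀ ≃ₗ[ℤ] W b₀) e₀ = e₀ from ha]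
      inv_mem' := fun {a} ha => by
        change (a : W b₀ ≃ₗ[ℤ] W b₀).symm e₀ = e₀
        rw [LinearEquiv.symm_apply_eq]
        exact (show (a : W b₀ ≃ₗ[ℤ] W b₀) e₀ = e₀ from ha).symm }
  have hCcomm : ∀ a b : C, a * b = b * a := by
    intro a b
    apply Subtype.ext
    apply Subtype.ext
    apply LinearEquiv.ext
    intro v
    exact hcomm a a.1.2 b b.1.2 a.2 b.2 v
  letI iC : CommGroup C := { (inferInstance : Group C) with mul_comm := hCcomm }
  let v : V := ∑ j, τ j e₀
  -- the entries of the stabilizer fix `e₀`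
  have hent : ∀ g ∈ stabilizer H v, ∀ j, (e g j : W b₀ ≃ₗ[ℤ] W b₀) e₀ = e₀ := by
    intro g hg j
    have h1 : g • v = ∑ i, τ i ((e g (g⁻¹ • i) : W b₀ ≃ₗ[ℤ] W b₀) e₀) := by
      rw [show g • v = ∑ j, g • τ j e₀ from Finset.smul_sum]
      rw [← Equiv.sum_comp (MulAction.toPerm g) (fun i => τ i ((e g (g⁻¹ • i) : W b₀ ≃ₗ[ℤ] W b₀) e₀))]
      refine Finset.sum_congr rfl fun j _ => ?_
      rw [esm, MulAction.toPerm_apply, inv_smul_smul]
    have h2 : ∑ i, τ i ((e g (g⁻¹ • i) : W b₀ ≃ₗ[ℤ] W b₀) e₀) = ∑ i, τ i e₀ := by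
      rw [← h1]
      exact mem_stabilizer_iff.1 hg
    have h3 := sum_inj I.ind (fun i => τmem i _) (fun i => τmem i _) h2 (g • j)
    rw [inv_smul_smul] at h3
    exact τinj _ h3
  let c : stabilizer H v → B → C := fun g j => ⟨e g j, hent g g.2 j⟩
  refine ⟨v, C, iC, c, ?_⟩
  have hmem1 : ∀ x : stabilizer H v, ((toPermHom H B).comp (stabilizer H v).subtype) x = 1 ↔ ∀ j : B, (x : H) • j = j := by
    intro x
    constructor
    · intro h1 i
      exact congrArg (fun s : Perm B => s i) h1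
    · intro h1
      exact Perm.ext h1
  have ecoc1 : ∀ i, e 1 i = 1 := by
    intro i
    have h1 := emul 1 1 i
    rwa [one_mul, one_smul, left_eq_mul] at h1
  refine ⟨?_, ?_, ?_, ?_, ?_, ?_, ?_⟩
  · intro σ hσ
    obtain ⟨x, hx1, hx2⟩ := epure σ (Perm.mem_alternatingGroup.2 hσ)
    have hxv : x • v = v := by
      rw [show x • v = ∑ j, x • τ j e₀ from Finset.smul_sum]
      change _ = ∑ j, τ j e₀
      rw [← Equiv.sum_comp (MulAction.toPerm x) (fun i => τ i e₀)]
      refine Finset.sum_congr rfl fun j _ => ?_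
      rw [esm, MulAction.toPerm_apply, hx2 j]
      rfl
    exact ⟨⟨x, mem_stabilizer_iff.2 hxv⟩, Perm.ext hx1⟩
  · intro g
    exact (hA _).2 ⟨(g : H), fun b => rfl⟩
  · intro n hn
    rw [Subgroup.mem_center_iff]
    intro g
    apply Subtype.ext
    exact Subgroup.mem_center_iff.1 (I.core.cen (Subgroup.mem_subgroupOf.1 hn)) g
  · intro x y hx hy i
    apply Subtype.ext
    change e ((x : H) * y) i = e x i * e y i
    rw [emul, (hmem1 y).1 hy i]
  · intro g x hx i
    have h1 : e ((g : H) * x * (g : H)⁻¹) ((g : H) • i) = e g i * e x i * (e g i)⁻¹ := by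
      rw [emul, emul, inv_smul_smul, (hmem1 x).1 hx i]
      congr 1
      rw [eq_inv_iff_mul_eq_one]
      have h2 := emul (g : H)⁻¹ g i
      rw [inv_mul_cancel, ecoc1] at h2
      exact h2.symm
    have h2 : c (g * x * g⁻¹) ((g : H) • i) = c g i * c x i * (c g i)⁻¹ := Subtype.ext h1
    change c (g * x * g⁻¹) ((g : H) • i) = c x i
    rw [h2, mul_comm (c g i), mul_inv_cancel_right]
  · intro x hx
    constructor
    · intro h1
      rw [Subgroup.mem_subgroupOf, ← I.core.ker]
      intro w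
      have h2 : ∀ j u, (x : H) • τ j u = τ j u := by
        intro j u
        rw [ek x j ((hmem1 x).1 hx)]
        have h3 : e (x : H) j = 1 := congrArg Subtype.val (h1 j)
        rw [h3]
        rfl
      have hw : w ∈ ⨆ i, W i := by rw [I.top]; trivial
      refine AddSubgroup.iSup_induction W (C := fun w => (x : H) • w = w) hw ?_ ?_ ?_
      · intro i w hw
        rw [← τran i] at hw
        obtain ⟨u, rfl⟩ := hw
        exact h2 i u
      · exact smul_zero _
      · intro a b ha hb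
        rw [smul_add, ha, hb]
    · intro hn i
      apply Subtype.ext
      apply Subtype.ext
      apply LinearEquiv.ext
      intro u
      have h3 := ek x i ((hmem1 x).1 hx) u
      rw [(I.core.ker (x : H)).2 (Subgroup.mem_subgroupOf.1 hn)] at h3
      exact (τinj i h3).symm
  · intro n hn
    rw [hmem1]
    have hnN : (n : H) ∈ N := Subgroup.mem_subgroupOf.1 hn
    intro j
    by_contra hne
    have h1 := hW (n : H) j (τ j e₀) (τmem j e₀)
    rw [(I.core.ker (n : H)).2 hnN] at h1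
    have h2 : Disjoint (W j) (W ((n : H) • j)) := I.ind.pairwiseDisjoint (Ne.symm hne)
    have h3 : τ j e₀ ∈ (⊥ : AddSubgroup V) := by
      rw [← h2.eq_bot]
      exact ⟨τmem j e₀, h1⟩
    apply he₀
    apply τinj j
    rw [map_zero]
    exact AddSubgroup.mem_bot.1 h3

end main

end Cfsg.Agent.H930.IP
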